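import Groth.Agent.WeakAss.Basic
import Groth.Agent.AlgSpMod.WeakAssFiniteFlat
import Groth.Agent.GeomField.Components
import Mathlib.RingTheory.RingHom.Flat
import Mathlib.RingTheory.RingHom.Finite
import Mathlib.FieldTheory.IntermediateField.Adjoin.Basic
import Mathlib.RingTheory.AlgebraicIndependent.Adjoin
import Mathlib.RingTheory.AlgebraicIndependent.TranscendenceBasis
import Mathlib.RingTheory.IsTensorProduct
import Mathlib.RingTheory.Support
import Mathlib.RingTheory.Ideal.GoingDown
import Mathlib.RingTheory.Spectrum.Prime.FreeLocus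

/-!
# Weakly associated primes and extensions of the base field

Weakly associated primes contract to weakly associated primes along `R → R ⊗ K` for a field extension `K/k`.
-/

universe u

open TensorProduct

namespace Groth.Agent.H4Hens.WeakAssField

open Groth.Agent

section Flat

variable {R A B : Type u} [CommRing R] [CommRing A] [CommRing B] [Algebra R A] [Algebra A B] [Algebra R B]
  [IsScalarTower R A B] {M : Type u} [AddCommGroup M] [Module R M]

/-- The map `A ⊗ M → B ⊗ M`. -/
noncomputable def up : A ⊗[R] M →ₗ[R] B ⊗[R] M := (IsScalarTower.toAlgHom R A B).toLinearMap.rTensor M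

theorem up_eq (y : A ⊗[R] M) :
    AlgebraTensorModule.cancelBaseChange R A B B M ((1 : B) ⊗ₜ[A] y) = up y := by
  induction y with
  | zero => simp
  | tmul a m =>
    simp [up, Algebra.algebraMap_eq_smul_one]
  | add x y hx hy => simp [tmul_add, hx, hy]

/-- Minimal primes of an annihilator go down along flat maps. -/
theorem comap_minimal_of_flat [Module.Flat A B] {N : Type u} [AddCommGroup N] [Module A N] {x : N} {q : Ideal B}
    [q.IsPrime] (h : q ∈ (WeakAss.annEl B ((1 : B) ⊗ₜ[A] x)).minimalPrimes) :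
    q.comap (algebraMap A B) ∈ (WeakAss.annEl A x).minimalPrimes := by
  have hsub : ∀ a ∈ WeakAss.annEl A x, algebraMap A B a ∈ WeakAss.annEl B ((1 : B) ⊗ₜ[A] x) := fun a ha =>
    WeakAss.mem_annEl.2 (by
      rw [algebraMap_smul, ← TensorProduct.tmul_smul, WeakAss.mem_annEl.1 ha, tmul_zero])
  have hmap : WeakAss.annEl B ((1 : B) ⊗ₜ[A] x) ≤ (WeakAss.annEl A x).map (algebraMap A B) := by
    intro b hb
    have hb' : b • ((1 : B) ⊗ₜ[A] x) = 0 := WeakAss.mem_annEl.1 hb
    rw [TensorProduct.smul_tmul', smul_eq_mul, mul_one] at hb'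
    have hex : Function.Exact (WeakAss.annEl A x).subtype (LinearMap.toSpanSingleton A N x) := fun a => by
      constructor
      · exact fun ha => ⟨⟨a, WeakAss.mem_annEl.2 ha⟩, rfl⟩
      · rintro ⟨a', rfl⟩; exact WeakAss.mem_annEl.1 a'.2
    have h0 : (LinearMap.toSpanSingleton A N x).lTensor B (b ⊗ₜ (1 : A)) = 0 := by
      rw [LinearMap.lTensor_tmul, LinearMap.toSpanSingleton_apply, one_smul, hb']
    obtain ⟨w, hw⟩ := (Module.Flat.lTensor_exact B hex _).1 h0
    have hw' : TensorProduct.rid A B ((WeakAss.annEl A x).subtype.lTensor B w) = b := by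
      rw [hw, TensorProduct.rid_tmul, one_smul]
    rw [← hw']
    clear hw hw'
    induction w with
    | zero => simp
    | tmul s a =>
      rw [LinearMap.lTensor_tmul, TensorProduct.rid_tmul, Algebra.smul_def]
      exact Ideal.mul_mem_right _ _ (Ideal.mem_map_of_mem _ a.2)
    | add w w' hw hw' => rw [map_add, map_add]; exact Ideal.add_mem _ hw hw'
  refine ⟨⟨Ideal.IsPrime.comap _, fun a ha => h.1.2 (hsub a ha)⟩, fun p' hp' hle => ?_⟩
  haveI := hp'.1
  haveI : q.LiesOver (q.under A) := ⟨rfl⟩
  obtain ⟨Q, hQq, hQp, hQo⟩ := Ideal.exists_ideal_le_liesOver_of_le (p := p') (q := q.under A) q hle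
  have hQann : WeakAss.annEl B ((1 : B) ⊗ₜ[A] x) ≤ Q := by
    refine hmap.trans (Ideal.map_le_iff_le_comap.2 ?_)
    have := hQo.over
    exact hp'.2.trans this.le
  have hqQ : q ≤ Q := h.2 ⟨hQp, hQann⟩ hQq
  rw [hQo.over]
  exact Ideal.comap_mono hqQ

/-- Descent of the witness along a flat map. -/
theorem comap_minimal_up [Module.Flat A B] {y : A ⊗[R] M} {q : Ideal B} [q.IsPrime]
    (h : q ∈ (WeakAss.annEl B (up (B := B) y)).minimalPrimes) :
    q.comap (algebraMap A B) ∈ (WeakAss.annEl A y).minimalPrimes := by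
  refine comap_minimal_of_flat (x := y) ?_
  rw [← WeakAss.annEl_map_of_injective (AlgebraTensorModule.cancelBaseChange R A B B M).toLinearMap
    (AlgebraTensorModule.cancelBaseChange R A B B M).injective]
  simpa [up_eq] using h

/-- Finite flat steps. -/
theorem comap_mem_weakAss_finite [Module.Finite A B] [Module.Flat A B] {q : Ideal B} [q.IsPrime]
    (h : q ∈ FlatCA.weakAss B (B ⊗[R] M)) : q.comap (algebraMap A B) ∈ FlatCA.weakAss A (A ⊗[R] M) := by
  obtain ⟨y, hy⟩ := h
  refine AlgSpMod.comap_mem_weakAss_finiteFlat (y := (AlgebraTensorModule.cancelBaseChange R A B B M).symm y) ?_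
  exact (WeakAss.annEl_map_of_injective (AlgebraTensorModule.cancelBaseChange R A B B M).symm.toLinearMap
    (AlgebraTensorModule.cancelBaseChange R A B B M).symm.injective y).symm ▸ hy

end Flat

section FiberDomain

variable {R A : Type u} [CommRing R] [CommRing A] [Algebra R A] {M : Type u} [AddCommGroup M] [Module R M]

theorem exists_functional {p : Ideal R} [p.IsPrime] {N : Type u} [AddCommGroup N] [Module R N] [Module.Finite R N]
    (h : ¬ ∃ r ∉ p, ∀ x : N, r • x = 0) : ∃ ψ : N →ₗ[R] p.ResidueField, ψ ≠ 0 := by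
  have hs : (⟨p, inferInstance⟩ : PrimeSpectrum R) ∈ Module.support R N := by
    rw [Module.mem_support_iff_of_finite]
    intro r hr
    by_contra hrp
    exact h ⟨r, hrp, fun x => Module.mem_annihilator.1 hr x⟩
  have : Nontrivial (p.ResidueField ⊗[R] N) := (Module.mem_support_iff_nontrivial_residueField_tensorProduct (M := N) _).1 hs
  obtain ⟨v, hv⟩ := exists_ne (0 : p.ResidueField ⊗[R] N)
  obtain ⟨φ, hφ⟩ : ∃ φ : (p.ResidueField ⊗[R] N) →ₗ[p.ResidueField] p.ResidueField, φ v ≠ 0 := by
    by_contra hne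
    push Not at hne
    exact hv ((Module.forall_dual_apply_eq_zero_iff p.ResidueField v).1 hne)
  refine ⟨φ.restrictScalars R ∘ₗ TensorProduct.mk R p.ResidueField N 1, fun h0 => hφ ?_⟩
  clear hv hφ
  induction v with
  | zero => simp
  | tmul a n =>
    rw [← mul_one a, ← smul_eq_mul, ← TensorProduct.smul_tmul', map_smul]
    have : φ ((1 : p.ResidueField) ⊗ₜ[R] n) = 0 := LinearMap.congr_fun h0 n
    rw [this, smul_zero]
  | add x y hx hy => rw [map_add, hx, hy, add_zero]

/-- If `A` is free over `R` with integral fibre over `p`, weakly associated primes contract. -/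
theorem comap_mem_weakAss_of_fiberDomain [Module.Free R A] {q : Ideal A} [q.IsPrime]
    [IsDomain ((q.comap (algebraMap R A)).ResidueField ⊗[R] A)]
    (h : q ∈ FlatCA.weakAss A (A ⊗[R] M)) : q.comap (algebraMap R A) ∈ FlatCA.weakAss R M := by
  classical
  obtain ⟨y, hy⟩ := h
  set p := q.comap (algebraMap R A) with hp
  let κ := p.ResidueField
  let b := Module.Free.chooseBasis R A
  let e : A ⊗[R] M ≃ₗ[R] (Module.Free.ChooseBasisIndex R A →₀ M) := TensorProduct.equivFinsuppOfBasisLeft b
  haveI : q.LiesOver p := ⟨rfl⟩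
  have hAnn : WeakAss.annEl A y ≤ q := hy.1.2
  obtain ⟨i, hi⟩ : ∃ i, WeakAss.annEl R (e y i) ≤ p := by
    by_contra hne
    push Not at hne
    choose r hr hrp using fun i => SetLike.not_le_iff_exists.1 (hne i)
    let P := ∏ i ∈ (e y).support, r i
    have hP : P ∉ p := by
      simp only [P, Ideal.IsPrime.prod_mem_iff, not_exists, not_and]
      exact fun i _ => hrp i
    refine hP (hAnn (WeakAss.mem_annEl.2 ?_))
    rw [algebraMap_smul]
    apply e.injective
    ext j
    rw [map_smul, map_zero, Finsupp.smul_apply, Finsupp.zero_apply]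
    by_cases hj : j ∈ (e y).support
    · obtain ⟨c, hc⟩ := Finset.dvd_prod_of_mem r hj
      simp only [P, hc, mul_comm _ c, mul_smul]
      rw [WeakAss.mem_annEl.1 (hr j), smul_zero]
    · rw [Finsupp.notMem_support_iff.1 hj, smul_zero]
  refine ⟨e y i, ⟨inferInstance, hi⟩, fun p' hp' hle f hf => ?_⟩
  haveI := hp'.1
  obtain ⟨s, hs, n, hsn⟩ := WeakAss.exists_mul_pow_mem hy (x := algebraMap R A f) hf
  rw [WeakAss.mem_annEl, mul_smul, ← map_pow, algebraMap_smul] at hsn
  set z := f ^ n • y with hz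
  let N := Submodule.span R (↑((e z).support.image (e z)) : Set M)
  haveI : Module.Finite R N := Module.Finite.iff_fg.2 ⟨_, rfl⟩
  by_cases hN : ∃ r ∉ p, ∀ x : N, r • x = 0
  · obtain ⟨r, hr, hr0⟩ := hN
    have : r * f ^ n ∈ WeakAss.annEl R (e y i) := by
      have hzi : f ^ n • (e y i) = e z i := by rw [hz, map_smul, Finsupp.smul_apply]
      rw [WeakAss.mem_annEl, mul_smul, hzi]
      by_cases hj : i ∈ (e z).support
      · exact congrArg Subtype.val (hr0 ⟨e z i, Submodule.subset_span (Finset.mem_image_of_mem _ hj)⟩)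
      · rw [Finsupp.notMem_support_iff.1 hj, smul_zero]
    rcases hp'.1.mem_or_mem (hp'.2 this) with h1 | h1
    · exact absurd (hle h1) hr
    · exact hp'.1.mem_of_pow_mem n h1
  · exfalso
    obtain ⟨ψ, hψ⟩ := exists_functional hN
    let c : Module.Free.ChooseBasisIndex R A → N := fun j =>
      if hj : j ∈ (e z).support then ⟨e z j, Submodule.subset_span (Finset.mem_image_of_mem _ hj)⟩ else 0
    let z' : A ⊗[R] N := ∑ j ∈ (e z).support, b j ⊗ₜ c j
    have hz' : N.subtype.lTensor A z' = z := by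
      conv_rhs => rw [← e.symm_apply_apply z, TensorProduct.equivFinsuppOfBasisLeft_symm_apply]
      rw [map_sum, Finsupp.sum]
      refine Finset.sum_congr rfl fun j hj => ?_
      simp only [c, LinearMap.lTensor_tmul, dif_pos hj]
      rfl
    let ι : A ⊗[R] N →ₗ[A] A ⊗[R] M := N.subtype.baseChange A
    have hι : ∀ w, ι w = N.subtype.lTensor A w := fun w => congrFun (N.subtype.baseChange_eq_ltensor (A := A)) w
    have hs0 : s • z' = 0 := by
      have hinj : Function.Injective ι := fun x x' hxx => Module.Flat.lTensor_preserves_injective_linearMap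
        (M := A) N.subtype Subtype.val_injective (by rwa [← hι, ← hι])
      apply hinj
      rw [map_smul, map_zero, hι, hz', hsn]
    let T := κ ⊗[R] A
    let χ : A ⊗[R] N →ₗ[R] T := (TensorProduct.comm R A κ).toLinearMap ∘ₗ ψ.lTensor A
    have hχ : ∀ (a : A) (w : A ⊗[R] N), χ (a • w) = ((1 : κ) ⊗ₜ[R] a) * χ w := by
      intro a w
      induction w with
      | zero => simp
      | tmul a' x =>
        simp only [χ, TensorProduct.smul_tmul', smul_eq_mul, LinearMap.coe_comp, Function.comp_apply,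
          LinearMap.lTensor_tmul, LinearEquiv.coe_coe, TensorProduct.comm_tmul]
        rw [Algebra.TensorProduct.tmul_mul_tmul, one_mul]
      | add w w' hw hw' => rw [smul_add, map_add, hw, hw', map_add, mul_add]
    have h1s : ((1 : κ) ⊗ₜ[R] s : T) ≠ 0 := by
      intro h0
      let g : T →ₐ[R] q.ResidueField := Algebra.TensorProduct.lift (Ideal.ResidueField.mapₐ (R := R) p q (Algebra.ofId R A) rfl)
        (IsScalarTower.toAlgHom R A q.ResidueField) fun _ _ => Commute.all _ _
      have := congrArg g h0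
      rw [map_zero] at this
      erw [Algebra.TensorProduct.lift_tmul, map_one, one_mul] at this
      exact hs (Ideal.algebraMap_residueField_eq_zero.1 this)
    have h0 := congrArg χ hs0
    rw [hχ, map_zero] at h0
    have hχz : χ z' = 0 := (mul_eq_zero.1 h0).resolve_left h1s
    apply hψ
    have hcoef : ∀ j ∈ (e z).support, ψ (c j) = 0 := by
      intro j hj
      have hrepr := congrArg (fun w => (b.baseChange κ).repr w j) hχz
      simp only [z', χ, map_sum, LinearMap.coe_comp, Function.comp_apply, LinearMap.lTensor_tmul,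
        LinearEquiv.coe_coe, TensorProduct.comm_tmul, map_zero, Finsupp.coe_zero, Pi.zero_apply,
        Finsupp.coe_finsetSum, Finset.sum_apply, Module.Basis.baseChange_repr_tmul, Module.Basis.repr_self] at hrepr
      rw [Finset.sum_eq_single_of_mem j hj (fun k _ hk => by rw [Finsupp.single_eq_of_ne hk.symm, zero_smul])] at hrepr
      simpa using hrepr
    refine LinearMap.ext fun x => ?_
    obtain ⟨x, hx⟩ := x
    induction hx using Submodule.span_induction with
    | mem x hx =>
      obtain ⟨j, hj, rfl⟩ := Finset.mem_image.1 (Finset.mem_coe.1 hx)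
      have := hcoef j hj
      simp only [c, dif_pos hj] at this
      exact this
    | zero => exact map_zero ψ
    | add x x' hx hx' h h' =>
      have := congrArg₂ (· + ·) h h'
      rw [← map_add, LinearMap.zero_apply, LinearMap.zero_apply, add_zero] at this
      exact this
    | smul a x hx h =>
      have := congrArg (a • ·) h
      rw [← map_smul, LinearMap.zero_apply, smul_zero] at this
      exact this

end FiberDomain

section Field

variable {k R : Type u} [Field k] [CommRing R] [Algebra k R] {M : Type u} [AddCommGroup M] [Module R M]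

theorem map_flat {E F : Type u} [Field E] [Field F] [Algebra k E] [Algebra k F] (j : E →ₐ[k] F) :
    (Algebra.TensorProduct.map (AlgHom.id R R) j).toRingHom.Flat :=
  RingHom.Flat.tensorProductMap (RingHom.Flat.id R) (RingHom.Flat.of_isField (Field.toIsField _) _)

theorem map_finite {E F : Type u} [Field E] [Field F] [Algebra k E] [Algebra k F] (j : E →ₐ[k] F)
    (hj : j.toRingHom.Finite) :
    (Algebra.TensorProduct.map (AlgHom.id R R) j).toRingHom.Finite :=
  by
  classical
  letI := j.toRingHom.toAlgebra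
  obtain ⟨s, hs⟩ := (show Module.Finite E F from hj).fg_top
  set ψ := (Algebra.TensorProduct.map (AlgHom.id R R) j).toRingHom with hψ
  letI := ψ.toAlgebra
  have key : Submodule.span (R ⊗[k] E) ((fun x : F => (1 : R) ⊗ₜ[k] x) '' (s : Set F)) = ⊤ := by
    refine eq_top_iff.2 fun t _ => ?_
    induction t with
    | zero => exact zero_mem _
    | add x y hx hy => exact add_mem (hx trivial) (hy trivial)
    | tmul r a =>
      have ha : a ∈ Submodule.span E (s : Set F) := by rw [hs]; trivial
      induction ha using Submodule.span_induction generalizing r with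
      | mem x hx =>
        have h1 : (r ⊗ₜ[k] x : R ⊗[k] F) = (r ⊗ₜ[k] (1 : E)) • ((1 : R) ⊗ₜ[k] x) := by
          rw [Algebra.smul_def]
          change _ = ψ (r ⊗ₜ[k] (1 : E)) * _
          simp [hψ]
        rw [h1]
        exact Submodule.smul_mem _ _ (Submodule.subset_span ⟨x, hx, rfl⟩)
      | zero => simp
      | add x y _ _ hx hy => rw [tmul_add]; exact add_mem (hx r trivial) (hy r trivial)
      | smul e x _ hx =>
        have h1 : (r ⊗ₜ[k] (e • x) : R ⊗[k] F) = ((1 : R) ⊗ₜ[k] e) • (r ⊗ₜ[k] x) := by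
          rw [Algebra.smul_def, Algebra.smul_def]
          change _ = ψ ((1 : R) ⊗ₜ[k] e) * _
          simp [hψ, RingHom.algebraMap_toAlgebra]
        rw [h1]
        exact Submodule.smul_mem _ _ (hx r trivial)
  exact ⟨⟨s.image fun x => (1 : R) ⊗ₜ[k] x, by rw [Finset.coe_image]; exact key⟩⟩

theorem purelyTranscendental {ι : Type u} {L : Type u} [Field L] [Algebra k L]
    (eL : FractionRing (MvPolynomial ι k) ≃ₐ[k] L) {q : Ideal (R ⊗[k] L)} [q.IsPrime]
    (h : q ∈ FlatCA.weakAss (R ⊗[k] L) ((R ⊗[k] L) ⊗[R] M)) :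
    q.comap (algebraMap R (R ⊗[k] L)) ∈ FlatCA.weakAss R M := by
  set p := q.comap (algebraMap R (R ⊗[k] L))
  let e₁ : p.ResidueField ⊗[R] (R ⊗[k] L) ≃ₐ[p.ResidueField] p.ResidueField ⊗[k] L :=
    Algebra.TensorProduct.cancelBaseChange k R p.ResidueField p.ResidueField L
  let e₂ : p.ResidueField ⊗[k] L ≃ₐ[k] FractionRing (MvPolynomial ι k) ⊗[k] p.ResidueField :=
    (Algebra.TensorProduct.comm k _ L).trans (Algebra.TensorProduct.congr eL.symm AlgEquiv.refl)
  haveI := GeomField.isDomain_tensor_fractionRing (k := k) p.ResidueField ι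
  haveI : IsDomain (p.ResidueField ⊗[R] (R ⊗[k] L)) :=
    MulEquiv.isDomain _ (e₁.toRingEquiv.trans e₂.toRingEquiv).toMulEquiv
  exact comap_mem_weakAss_of_fiberDomain h

theorem exists_intermediate {K : Type u} [Field K] [Algebra k K] (y : (R ⊗[k] K) ⊗[R] M) :
    ∃ K₀ : IntermediateField k K, K₀.FG ∧
      y ∈ LinearMap.range ((Algebra.TensorProduct.map (AlgHom.id R R) K₀.val).toLinearMap.rTensor M) := by
  have key : ∀ {K₁ K₂ : IntermediateField k K}, K₁ ≤ K₂ →
      LinearMap.range ((Algebra.TensorProduct.map (AlgHom.id R R) K₁.val).toLinearMap.rTensor M) ≤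
      LinearMap.range ((Algebra.TensorProduct.map (AlgHom.id R R) K₂.val).toLinearMap.rTensor M) := by
    intro K₁ K₂ hle
    have : (Algebra.TensorProduct.map (AlgHom.id R R) K₁.val) =
        (Algebra.TensorProduct.map (AlgHom.id R R) K₂.val).comp
          (Algebra.TensorProduct.map (AlgHom.id R R) (IntermediateField.inclusion hle)) := by
      refine Algebra.TensorProduct.ext (AlgHom.ext fun r => ?_) (AlgHom.ext fun x => ?_)
      · simp
      · simp
    rw [this, AlgHom.comp_toLinearMap, LinearMap.rTensor_comp]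
    exact LinearMap.range_comp_le_range _ _
  induction y with
  | zero => exact ⟨⊥, IntermediateField.fg_bot, zero_mem _⟩
  | add x x' hx hx' =>
    obtain ⟨K₁, h1, hx⟩ := hx
    obtain ⟨K₂, h2, hx'⟩ := hx'
    exact ⟨K₁ ⊔ K₂, IntermediateField.fg_sup h1 h2, add_mem (key le_sup_left hx) (key le_sup_right hx')⟩
  | tmul t m =>
    induction t with
    | zero => exact ⟨⊥, IntermediateField.fg_bot, by simp⟩
    | add t t' ht ht' =>
      obtain ⟨K₁, h1, ht⟩ := ht
      obtain ⟨K₂, h2, ht'⟩ := ht'
      refine ⟨K₁ ⊔ K₂, IntermediateField.fg_sup h1 h2, ?_⟩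
      rw [add_tmul]
      exact add_mem (key le_sup_left ht) (key le_sup_right ht')
    | tmul r a =>
      refine ⟨IntermediateField.adjoin k {a}, IntermediateField.fg_adjoin_of_finite (Set.finite_singleton a), ?_⟩
      exact ⟨(r ⊗ₜ ⟨a, IntermediateField.mem_adjoin_simple_self k a⟩) ⊗ₜ m, by simp⟩

theorem of_finitelyGenerated {K : Type u} [Field K] [Algebra k K] (hfg : (⊤ : IntermediateField k K).FG)
    {q : Ideal (R ⊗[k] K)} [q.IsPrime] (h : q ∈ FlatCA.weakAss (R ⊗[k] K) ((R ⊗[k] K) ⊗[R] M)) :
    q.comap (algebraMap R (R ⊗[k] K)) ∈ FlatCA.weakAss R M := by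
  obtain ⟨ι, x, hx⟩ := exists_isTranscendenceBasis' k K
  let L := IntermediateField.adjoin k (Set.range x)
  have hL : Algebra.IsAlgebraic L K := hx.isAlgebraic_field
  haveI : Algebra.EssFiniteType k K := IntermediateField.fg_top_iff.1 hfg
  haveI : Algebra.EssFiniteType L K := Algebra.EssFiniteType.of_comp k L K
  haveI : Module.Finite L K := Algebra.finite_of_essFiniteType_of_isAlgebraic
  let φ : R ⊗[k] L →ₐ[R] R ⊗[k] K := Algebra.TensorProduct.map (AlgHom.id R R) L.val
  letI : Algebra (R ⊗[k] L) (R ⊗[k] K) := φ.toRingHom.toAlgebra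
  haveI : IsScalarTower R (R ⊗[k] L) (R ⊗[k] K) :=
    IsScalarTower.of_algebraMap_eq (R := R) (S := R ⊗[k] L) (A := R ⊗[k] K) fun r => (φ.commutes r).symm
  haveI hFl : Module.Flat (R ⊗[k] L) (R ⊗[k] K) := map_flat L.val
  haveI hFi := (RingHom.finite_algebraMap (A := R ⊗[k] L) (B := R ⊗[k] K)).1
    (map_finite L.val (RingHom.finite_algebraMap.2 inferInstance))
  have h₁ := comap_mem_weakAss_finite (R := R) (A := R ⊗[k] L) h
  rw [IsScalarTower.algebraMap_eq R (R ⊗[k] L) (R ⊗[k] K), ← Ideal.comap_comap]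
  exact purelyTranscendental hx.1.aevalEquivField h₁

/-- Weakly associated primes contract along an extension of the base field. -/
theorem tensor {K : Type u} [Field K] [Algebra k K] {q : Ideal (R ⊗[k] K)} [q.IsPrime]
    (h : q ∈ FlatCA.weakAss (R ⊗[k] K) ((R ⊗[k] K) ⊗[R] M)) :
    q.comap (algebraMap R (R ⊗[k] K)) ∈ FlatCA.weakAss R M := by
  obtain ⟨y, hy⟩ := h
  obtain ⟨K₀, hfg, y₀, rfl⟩ := exists_intermediate y
  let φ : R ⊗[k] K₀ →ₐ[R] R ⊗[k] K := Algebra.TensorProduct.map (AlgHom.id R R) K₀.val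
  letI : Algebra (R ⊗[k] K₀) (R ⊗[k] K) := φ.toRingHom.toAlgebra
  haveI : IsScalarTower R (R ⊗[k] K₀) (R ⊗[k] K) :=
    IsScalarTower.of_algebraMap_eq (R := R) (S := R ⊗[k] K₀) (A := R ⊗[k] K) fun r => (φ.commutes r).symm
  haveI hFl : Module.Flat (R ⊗[k] K₀) (R ⊗[k] K) := map_flat K₀.val
  have h₁ : q.comap (algebraMap (R ⊗[k] K₀) (R ⊗[k] K)) ∈ (WeakAss.annEl (R ⊗[k] K₀) y₀).minimalPrimes :=
    comap_minimal_up (R := R) (A := R ⊗[k] K₀) (B := R ⊗[k] K) hy
  have htop : (⊤ : IntermediateField k K₀).FG :=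
    IntermediateField.fg_top_iff.2 (IntermediateField.essFiniteType_iff.2 hfg)
  rw [IsScalarTower.algebraMap_eq R (R ⊗[k] K₀) (R ⊗[k] K), ← Ideal.comap_comap]
  exact of_finitelyGenerated htop ⟨y₀, h₁⟩

/-- The statement for any model of the pushout and of the base change. -/
theorem pushout {K : Type u} [Field K] [Algebra k K] {RK : Type u} [CommRing RK] [Algebra k RK] [Algebra K RK]
    [Algebra R RK] [IsScalarTower k K RK] [IsScalarTower k R RK] [Algebra.IsPushout k K R RK]
    {MK : Type u} [AddCommGroup MK] [Module RK MK] [Module R MK] [IsScalarTower R RK MK] {f : M →ₗ[R] MK}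
    (hf : IsBaseChange RK f) {q : Ideal RK} [q.IsPrime] (hq : q ∈ FlatCA.weakAss RK MK) :
    q.comap (algebraMap R RK) ∈ FlatCA.weakAss R M := by
  have hq' : q ∈ FlatCA.weakAss RK (RK ⊗[R] M) :=
    WeakAss.weakAss_subset_of_injective hf.equiv.symm.toLinearMap hf.equiv.symm.injective hq
  obtain ⟨y, hy⟩ := hq'
  haveI : Algebra.IsPushout k R K RK := Algebra.IsPushout.symm inferInstance
  let e : R ⊗[k] K ≃ₐ[R] RK := Algebra.IsPushout.equiv k R K RK
  letI : Algebra (R ⊗[k] K) RK := e.toRingEquiv.toRingHom.toAlgebra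
  haveI : IsScalarTower R (R ⊗[k] K) RK := IsScalarTower.of_algebraMap_eq fun r => (e.commutes r).symm
  haveI : Module.Flat (R ⊗[k] K) RK :=
    RingHom.Flat.of_bijective (f := e.toRingEquiv.toRingHom) e.bijective
  obtain ⟨y₀, rfl⟩ : ∃ y₀ : (R ⊗[k] K) ⊗[R] M, up (B := RK) y₀ = y :=
    LinearMap.rTensor_surjective M e.surjective y
  have h₁ := comap_minimal_up (R := R) (A := R ⊗[k] K) (B := RK) hy
  rw [IsScalarTower.algebraMap_eq R (R ⊗[k] K) RK, ← Ideal.comap_comap]
  exact tensor ⟨y₀, h₁⟩

end Field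

end Groth.Agent.H4Hens.WeakAssField
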